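import Mathlib
import Cfsg.Agent.S0071
import Cfsg.Agent.S0144

/-!
# Simple groups with a very small Sylow 2-subgroup
-/

namespace Cfsg.Agent.SmallSimple

variable {G : Type*} [Group G] [Finite G]

theorem fix_of_coprime {Q : Type*} [Group Q] [Finite Q] {j : ℕ} (hQ : Nat.card Q = 2 ^ j) (hj : j ≤ 3)
    {n : ℕ} (hn : Odd n) (h3 : 3 ∣ n → j ≤ 1) (h7 : 7 ∣ n → j ≤ 2)
    (σ : MulAut Q) (hσ : σ ^ n = 1) : σ = 1 := by
  have hdvd := orderOf_dvd_of_pow_eq_one hσ
  by_contra hne
  obtain ⟨r, hr, hrd⟩ := Nat.exists_prime_and_dvd (n := orderOf σ)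
    (fun e => hne (orderOf_eq_one_iff.1 e))
  have hrn : r ∣ n := hrd.trans hdvd
  set τ := σ ^ (orderOf σ / r) with hτdef
  have hτ : orderOf τ = r := orderOf_pow_orderOf_div
    (by rintro e; rw [e, zero_dvd_iff] at hdvd; subst hdvd; exact absurd hn (by decide)) hrd
  have : Fact r.Prime := ⟨hr⟩
  have hP : IsPGroup r ↥(Subgroup.zpowers τ) := IsPGroup.of_card (n := 1) (by
    rw [Nat.card_zpowers, hτ, pow_one])
  have hmod := hP.card_modEq_card_fixedPoints Q
  let F : Subgroup Q :=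
    { carrier := {x | τ x = x}
      one_mem' := map_one τ
      mul_mem' := fun {a b} ha hb => by
        show τ (a * b) = a * b
        rw [map_mul, (ha : τ a = a), (hb : τ b = b)]
      inv_mem' := fun {a} ha => by
        show τ a⁻¹ = a⁻¹
        rw [map_inv, (ha : τ a = a)] }
  have hF : MulAction.fixedPoints ↥(Subgroup.zpowers τ) Q = (F : Set Q) := by
    ext x
    refine ⟨fun h => h ⟨τ, Subgroup.mem_zpowers τ⟩, fun h => ?_⟩
    rintro ⟨g, hg⟩
    have : Subgroup.zpowers τ ≤ MulAction.stabilizer (MulAut Q) x :=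
      Subgroup.zpowers_le.2 h
    exact this hg
  rw [hF, hQ] at hmod
  obtain ⟨i, hi, hiF⟩ := (Nat.dvd_prime_pow Nat.prime_two).1 (hQ ▸ F.card_subgroup_dvd_card)
  have hFne : i ≠ j := fun e => by
    have hτ1 : τ = 1 := MulEquiv.ext fun x => by
      have hx : x ∈ F := by
        rw [Subgroup.eq_top_of_card_eq F (by rw [hiF, hQ, e])]
        exact Subgroup.mem_top x
      exact hx
    rw [hτ1, orderOf_one] at hτ
    exact hr.ne_one hτ.symm
  have h1 : r ∣ 2 ^ j - 2 ^ i := by
    have := (Nat.modEq_iff_dvd' (Nat.pow_le_pow_right (show 2 > 0 by norm_num) hi)).1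
      (by simpa [hiF] using hmod.symm)
    exact this
  have hr2 : r ≠ 2 := fun e => by
    subst e; exact Nat.not_even_iff_odd.2 hn (even_iff_two_dvd.2 hrn)
  interval_cases j <;> interval_cases i <;> norm_num at h1 hFne
  all_goals
    have hle : r ≤ 7 := by first | omega | exact (Nat.le_of_dvd (by norm_num) h1).trans (by norm_num)
  all_goals interval_cases r <;> first
    | omega
    | (apply absurd hr; norm_num; done)
    | (apply absurd h1; norm_num; done)
    | (have := h3 hrn; omega)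
    | (have := h7 hrn; omega)

theorem no_complement [IsSimpleGroup G] (P : Sylow 2 G) (hP1 : (P : Subgroup G) ≠ ⊥)
    (hP : (P : Subgroup G) ≠ ⊤) : ¬ ∃ N : Subgroup G, N.Normal ∧ N.IsComplement' (P : Subgroup G) := by
  rintro ⟨N, hN, hc⟩
  rcases hN.eq_bot_or_eq_top with rfl | rfl
  · exact hP (Subgroup.isComplement'_bot_left.1 hc)
  · exact hP1 (Subgroup.isComplement'_top_left.1 hc)

/-- A simple group whose Sylow 2-subgroup has order at most 8 and is not the whole group has order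
divisible by 3 (when `4 ∣ |P|`) or by 7 (when `|P| = 8`). -/
theorem small_sylow [IsSimpleGroup G] (P : Sylow 2 G) {k : ℕ} (hk : Nat.card ↥(P : Subgroup G) = 2 ^ k)
    (hk1 : 1 ≤ k) (hk3 : k ≤ 3) (hP : (P : Subgroup G) ≠ ⊤) :
    (3 ∣ Nat.card G ∧ 2 ≤ k) ∨ (7 ∣ Nat.card G ∧ k = 3) := by
  have : Fact (Nat.Prime 2) := ⟨Nat.prime_two⟩
  by_contra hc
  push Not at hc
  refine no_complement P (fun e => ?_) hP ((Cfsg.Agent.S0071.result P).2 fun Q hQP g hg hgc => ?_)
  · rw [e, Subgroup.card_bot] at hk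
    exact absurd hk.symm (Nat.one_lt_two_pow (by omega)).ne'
  obtain ⟨j, hj, hjQ⟩ := (Nat.dvd_prime_pow Nat.prime_two).1 (hk ▸ Subgroup.card_dvd_of_le hQP)
  have hnorm := Subgroup.mem_normalizer_iff.1 hg
  let σ : MulAut ↥Q :=
    { toFun := fun x => ⟨g * x * g⁻¹, (hnorm x).1 x.2⟩
      invFun := fun x => ⟨g⁻¹ * x * g, (hnorm _).2 (by simpa [mul_assoc] using x.2)⟩
      left_inv := fun x => Subtype.ext (by simp [mul_assoc])
      right_inv := fun x => Subtype.ext (by simp [mul_assoc])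
      map_mul' := fun x y => Subtype.ext (by simp [mul_assoc]) }
  have hpow : ∀ m (x : ↥Q), (((σ ^ m) x : ↥Q) : G) = g ^ m * x * (g ^ m)⁻¹ := by
    intro m
    induction m with
    | zero => intro x; simp
    | succ m ih =>
      intro x
      rw [pow_succ', MulAut.mul_apply]
      show g * ((σ ^ m) x : G) * g⁻¹ = _
      rw [ih, pow_succ']
      group
  have hσ := fix_of_coprime hjQ (hj.trans hk3) (Nat.coprime_two_right.1 hgc)
    (fun h => by
      have h3 : 3 ∣ Nat.card G := h.trans (orderOf_dvd_natCard g)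
      have := hc.1 h3; omega)
    (fun h => by
      have h7 : 7 ∣ Nat.card G := h.trans (orderOf_dvd_natCard g)
      have := hc.2 h7; omega)
    σ (MulEquiv.ext fun x => Subtype.ext (by rw [hpow, pow_orderOf_eq_one]; simp))
  refine Subgroup.mem_centralizer_iff.2 fun x hx => ?_
  have : g * x * g⁻¹ = x :=
    congrArg Subtype.val (congrArg (fun f : MulAut ↥Q => f ⟨x, hx⟩) hσ)
  exact (mul_inv_eq_iff_eq_mul.1 this).symm

theorem sylow_two_ne_top [IsSimpleGroup G] (hG : ¬ IsMulCommutative G) (P : Sylow 2 G) :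
    (P : Subgroup G) ≠ ⊤ := by
  intro e
  have : Fact (Nat.Prime 2) := ⟨Nat.prime_two⟩
  have h : IsPGroup 2 G := (e ▸ P.isPGroup').of_equiv Subgroup.topEquiv
  have := h.isNilpotent
  have hs : Group.IsSolvable G := inferInstance
  exact hG ⟨⟨IsSimpleGroup.comm_iff_isSolvable.2 hs⟩⟩

theorem not_comm_of_not_cyclic [IsSimpleGroup G] (h : ¬ IsCyclic G) : ¬ IsMulCommutative G := by
  intro hc
  let : CommGroup G := { (inferInstance : Group G) with mul_comm := hc.is_comm.comm }
  exact h IsSimpleGroup.isCyclic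

end Cfsg.Agent.SmallSimple
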